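import Cfsg.Agent.Lib.M22Sub.Table

/-!
A subgroup of M22 of order divisible by eleven and at least 4480 is M22.
-/

set_option autoImplicit false

namespace CfsgLib.M22Sub

open Cfsg CfsgLib.Golay

theorem mem_goodInv_generates {K : Subgroup (Equiv.Perm (Fin 22))} (hx : perm22 elevenL ∈ K)
    {p : List ℕ × List Step} (hp : p ∈ goodInv) (hv : validL 22 p.1 = true) (hmem : perm22 p.1 ∈ K) :
    M22Idx.grp ≤ K := by
  have h := List.all_eq_true.1 good_slp p hp
  rw [Bool.and_eq_true] at h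
  refine grp_le hx (slp_mem (Equiv.refl (Fin 22)) K h.1 ?_ starL (List.contains_iff_mem.1 h.2)).2
  intro g hg
  simp only [List.mem_cons, List.not_mem_nil, or_false] at hg
  rcases hg with rfl | rfl
  exacts [hx, hmem]

/-- An exceptional involution. -/
def IsBad (g : Equiv.Perm (Fin 22)) : Prop := ∃ L ∈ badInv, perm22 L = g

theorem bad_valid {L : List ℕ} (hL : L ∈ badInv) : validL 22 L = true :=
  List.all_eq_true.1 bad_pairs.2.2.1 L hL

theorem bad_not_comm {g h : Equiv.Perm (Fin 22)} (hg : IsBad g) (hh : IsBad h) (hc : g * h = h * g) :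
    g = h := by
  obtain ⟨A, hA, rfl⟩ := hg
  obtain ⟨B, hB, rfl⟩ := hh
  have e := List.all_eq_true.1 (List.all_eq_true.1 bad_pairs.1 A hA) B hB
  simp only [Bool.or_eq_true, beq_iff_eq, Bool.not_eq_true', beq_eq_false_iff_ne, ne_eq] at e
  have hvA := bad_valid hA
  have hvB := bad_valid hB
  rcases e with e | e
  · rw [e]
  · refine absurd (perm22_inj (valid_compL hvA hvB) (valid_compL hvB hvA) ?_) e
    rw [perm22_comp hvA hvB, perm22_comp hvB hvA, hc]

theorem pair_class {g : Equiv.Perm (Fin 22)} (hg : g ∈ pairStab) :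
    (g * g = 1 → g = 1 ∨ IsBad g ∨ ∃ p ∈ goodInv, validL 22 p.1 = true ∧ perm22 p.1 = g) ∧
    (∃ m, 1 ≤ m ∧ m ≤ 5 ∧ g ^ m = 1) ∧ ¬ IsBad (g * g) := by
  obtain ⟨L, hL, rfl⟩ := mem_pairTbl hg
  have hv := (pair_mem L hL).1
  have h := List.all_eq_true.1 pair_elts L hL
  rw [Bool.and_eq_true, smallOrd, Bool.and_eq_true] at h
  obtain ⟨h1, h2, h3⟩ := h
  refine ⟨fun hsq => ?_, ?_, ?_⟩
  · have e : compL L L = List.range 22 :=
      perm22_inj (valid_compL hv hv) valid_range (by rw [perm22_comp hv hv, hsq, perm22_range])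
    simp only [invClass, Bool.or_eq_true, Bool.not_eq_true', beq_eq_false_iff_ne, ne_eq, e,
      not_true_eq_false, false_or, beq_iff_eq, List.any_eq_true, List.contains_iff_mem] at h1
    rcases h1 with (e' | ⟨p, hp, e'⟩) | hb
    · exact Or.inl (by rw [e', perm22_range])
    · exact Or.inr (Or.inr ⟨p, hp, e' ▸ hv, by rw [e']⟩)
    · exact Or.inr (Or.inl ⟨L, hb, rfl⟩)
  · obtain ⟨m, hm, e⟩ := List.any_eq_true.1 h2
    rw [List.mem_range'_1] at hm
    rw [beq_iff_eq] at e
    exact ⟨m, hm.1, by omega, by rw [← (perm22_powL hv m).2, e, perm22_range]⟩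
  · rintro ⟨B, hB, e⟩
    rw [← perm22_comp hv hv] at e
    have e' := perm22_inj (bad_valid hB) (valid_compL hv hv) e
    simp only [Bool.not_eq_true', ← Bool.not_eq_true, List.contains_iff_mem] at h3
    exact h3 (e' ▸ hB)

theorem bad_finite : ∃ S : Finset (Equiv.Perm (Fin 22)), S.card ≤ 3 ∧ ∀ g, IsBad g → g ∈ S := by
  classical
  refine ⟨(badInv.map perm22).toFinset, ?_, fun g ⟨L, hL, e⟩ => ?_⟩
  · refine (List.toFinset_card_le _).trans ?_
    rw [List.length_map, bad_pairs.2.1]
  · exact List.mem_toFinset.2 (List.mem_map.2 ⟨L, hL, e⟩)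

/-- A subgroup of the pair stabiliser whose involutions are all exceptional is small. -/
theorem small_of_bad {J : Subgroup (Equiv.Perm (Fin 22))} (hJ : J ≤ pairStab)
    (hb : ∀ g ∈ J, g * g = 1 → g = 1 ∨ IsBad g) : Nat.card J < 10 := by
  by_contra hlt
  push_neg at hlt
  have hd : Nat.card J ∣ 960 := card_pairStab ▸ Subgroup.card_dvd_of_le hJ
  have hord : ∀ g : J, orderOf g ≤ 5 := by
    intro g
    obtain ⟨m, h1, h5, hm⟩ := (pair_class (hJ g.2)).2.1
    exact (orderOf_le_of_pow_eq_one (by omega) (Subtype.ext (by simpa using hm))).trans h5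
  have hno4 : ∀ g : J, g ^ 4 = 1 → g * g = 1 := by
    intro g h4
    rcases hb (g * g : J) (g * g).2 (by
      have := congrArg Subtype.val h4
      simp only [SubmonoidClass.coe_pow, OneMemClass.coe_one] at this
      simpa [pow_succ, mul_assoc] using this) with h | h
    · exact Subtype.ext h
    · exact absurd h (pair_class (hJ g.2)).2.2
  have h4 : ¬ 4 ∣ Nat.card J := by
    intro hd4
    haveI : Fact (Nat.Prime 2) := ⟨Nat.prime_two⟩
    obtain ⟨Q, hQ⟩ := Sylow.exists_subgroup_card_pow_prime (G := J) 2 (n := 2) (by simpa using hd4)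
    norm_num at hQ
    haveI : Fintype Q := Fintype.ofFinite _
    have hc : Fintype.card Q = 4 := by rw [← Nat.card_eq_fintype_card]; exact hQ
    classical
    obtain ⟨a, b, ha, hb', hab⟩ : ∃ a b : Q, a ≠ 1 ∧ b ≠ 1 ∧ a ≠ b := by
      obtain ⟨a, ha⟩ := Finset.card_pos.1 (show 0 < (Finset.univ.erase (1 : Q)).card by simp [hc])
      obtain ⟨b, hb'⟩ := Finset.card_pos.1
        (show 0 < ((Finset.univ.erase (1 : Q)).erase a).card by
          rw [Finset.card_erase_of_mem ha]; simp [hc])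
      simp only [Finset.mem_erase, Finset.mem_univ, and_true] at ha hb'
      exact ⟨a, b, ha, hb'.2, fun e => hb'.1 e.symm⟩
    have hsq : ∀ q : Q, q * q = 1 := fun q => by
      have : q ^ 4 = 1 := by rw [← hQ]; exact pow_card_eq_one'
      exact Subtype.ext (hno4 q.val (by rw [← SubmonoidClass.coe_pow, this]; rfl))
    have hbad : ∀ q : Q, q ≠ 1 → IsBad q.val.val := fun q hq => by
      refine (hb _ q.val.2 ?_).resolve_left fun h => hq (Subtype.ext (Subtype.ext h))
      exact congrArg (fun z : Q => z.val.val) (hsq q)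
    have hcomm : a * b = b * a := by
      have e1 : ∀ q : Q, q⁻¹ = q := fun q => inv_eq_of_mul_eq_one_right (hsq q)
      calc a * b = (a * b)⁻¹ := (e1 _).symm
        _ = b⁻¹ * a⁻¹ := mul_inv_rev a b
        _ = b * a := by rw [e1, e1]
    exact hab (Subtype.ext (Subtype.ext (bad_not_comm (hbad a ha) (hbad b hb')
      (congrArg (fun z : Q => z.val.val) hcomm))))
  have hcases : Nat.card J = 10 ∨ Nat.card J = 15 ∨ Nat.card J = 30 := by
    have hmem : Nat.card J ∈ Nat.divisors 960 := Nat.mem_divisors.2 ⟨hd, by norm_num⟩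
    have key : ∀ n ∈ Nat.divisors 960, 10 ≤ n → n % 4 ≠ 0 → n = 10 ∨ n = 15 ∨ n = 30 := by
      decide +kernel
    exact key _ hmem hlt fun h => h4 (Nat.dvd_of_mod_eq_zero h)
  haveI : Fact (Nat.Prime 5) := ⟨by norm_num⟩
  obtain ⟨g, hg⟩ := exists_prime_orderOf_dvd_card' (G := J) 5 (by rcases hcases with h | h | h <;> omega)
  by_cases h2 : 2 ∣ Nat.card J
  · haveI : Fact (Nat.Prime 2) := ⟨Nat.prime_two⟩
    obtain ⟨t, ht⟩ := exists_prime_orderOf_dvd_card' (G := J) 2 h2
    have ht1 : t ≠ 1 := fun e => by simp [e] at ht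
    have htt : t * t = 1 := by rw [← sq, ← ht, pow_orderOf_eq_one]
    obtain ⟨S, hS, hSmem⟩ := bad_finite
    let f : Fin 5 → Equiv.Perm (Fin 22) := fun i => ((g ^ i.val * t * (g ^ i.val)⁻¹ : J) : Equiv.Perm (Fin 22))
    have hf : ∀ i, f i ∈ S := fun i => by
      refine hSmem _ ((hb _ (g ^ i.val * t * (g ^ i.val)⁻¹).2 ?_).resolve_left fun h => ht1 ?_)
      · rw [← Subgroup.coe_mul, ← Subgroup.coe_one, Subtype.coe_inj]
        rw [show g ^ i.val * t * (g ^ i.val)⁻¹ * (g ^ i.val * t * (g ^ i.val)⁻¹) =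
          g ^ i.val * (t * t) * (g ^ i.val)⁻¹ by group, htt, mul_one, mul_inv_cancel]
      · have : g ^ i.val * t * (g ^ i.val)⁻¹ = 1 := Subtype.ext h
        exact conj_eq_one_iff.1 this
    obtain ⟨i, -, j, -, hij, he⟩ := Finset.exists_ne_map_eq_of_card_lt_of_maps_to
      (s := (Finset.univ : Finset (Fin 5))) (t := S) (by rw [Finset.card_univ, Fintype.card_fin]; omega)
      (fun i _ => hf i)
    wlog hlt' : i.val < j.val generalizing i j
    · exact this j i (Ne.symm hij) he.symm (by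
        have := Fin.val_ne_of_ne hij
        omega)
    have he' : g ^ i.val * t * (g ^ i.val)⁻¹ = g ^ j.val * t * (g ^ j.val)⁻¹ := Subtype.ext he
    obtain ⟨d, hd'⟩ := Nat.exists_eq_add_of_lt hlt'
    have hcomm : Commute (g ^ (d + 1)) t := by
      rw [show j.val = i.val + (d + 1) by omega, pow_add] at he'
      have : t = g ^ (d + 1) * t * (g ^ (d + 1))⁻¹ := by
        have e := congrArg (fun z => (g ^ i.val)⁻¹ * z * g ^ i.val) he'
        simpa [mul_assoc] using e
      show g ^ (d + 1) * t = t * g ^ (d + 1)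
      conv_rhs => rw [this]
      group
    have ho : orderOf (g ^ (d + 1)) = 5 := by
      rw [orderOf_pow, hg]
      have : j.val < 5 := j.isLt
      rw [show Nat.gcd 5 (d + 1) = 1 from (Nat.Prime.coprime_iff_not_dvd (by norm_num)).2
        (Nat.not_dvd_of_pos_of_lt (by omega) (by omega))]
    have := hord (g ^ (d + 1) * t)
    rw [hcomm.orderOf_mul_eq_mul_orderOf_of_coprime (by rw [ho, ht]; norm_num), ho, ht] at this
    omega
  · have hc15 : Nat.card J = 15 := by rcases hcases with h | h | h <;> omega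
    haveI : Fact (Nat.Prime 3) := ⟨by norm_num⟩
    obtain ⟨h, hh⟩ := exists_prime_orderOf_dvd_card' (G := J) 3 (by omega)
    have h5 : ∀ P : Sylow 5 J, Nat.card P = 5 := fun P => by
      rw [Sylow.card_eq_multiplicity, hc15, show (15 : ℕ) = 3 * 5 by norm_num,
        Nat.factorization_mul (by norm_num) (by norm_num), Nat.Prime.factorization (by norm_num : Nat.Prime 3),
        Nat.Prime.factorization (by norm_num : Nat.Prime 5)]
      simp
    obtain ⟨P⟩ : Nonempty (Sylow 5 J) := inferInstance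
    have hn : Nat.card (Sylow 5 J) = 1 := by
      have h1 := Sylow.card_dvd_index P
      have h2 := card_sylow_modEq_one 5 J
      have hi : (P : Subgroup J).index = 3 := by
        have := (P : Subgroup J).index_mul_card
        rw [h5 P, hc15] at this
        omega
      rw [hi] at h1
      rcases (Nat.dvd_prime (by norm_num : Nat.Prime 3)).1 h1 with e | e
      · exact e
      · rw [e] at h2; exact absurd h2 (by decide)
    haveI : Subsingleton (Sylow 5 J) := (Nat.card_eq_one_iff_unique.1 hn).1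
    haveI hPn : (P : Subgroup J).Normal := Sylow.normal_of_subsingleton P
    have hgz : (P : Subgroup J) = Subgroup.zpowers g := by
      obtain ⟨R, hR⟩ := (IsPGroup.of_card (p := 5) (n := 1)
        (show Nat.card (Subgroup.zpowers g) = 5 ^ 1 by rw [Nat.card_zpowers, hg, pow_one])).exists_le_sylow
      rw [Subsingleton.elim R P] at hR
      exact (Subgroup.eq_of_le_of_card_ge hR (by rw [h5 P, Nat.card_zpowers, hg])).symm
    have hgh : h * g * h⁻¹ ∈ Subgroup.zpowers g := hgz ▸ hPn.conj_mem g (hgz ▸ Subgroup.mem_zpowers g) h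
    rw [← mem_powers_iff_mem_zpowers, Submonoid.mem_powers_iff] at hgh
    obtain ⟨a, ha⟩ := hgh
    have hk : ∀ k : ℕ, h ^ k * g * (h ^ k)⁻¹ = g ^ (a ^ k) := by
      intro k
      induction k with
      | zero => simp
      | succ k ih =>
        rw [pow_succ', show h * h ^ k * g * (h * h ^ k)⁻¹ = h * (h ^ k * g * (h ^ k)⁻¹) * h⁻¹ by group,
          ih, ← conj_pow, ← ha, ← pow_mul, pow_succ']
    have h3 := hk 3
    rw [← hh, pow_orderOf_eq_one, inv_one, one_mul, mul_one, hh] at h3
    have hmod : a ^ 3 % 5 = 1 := by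
      have := (pow_eq_pow_iff_modEq (x := g) (n := a ^ 3) (m := 1)).1 (by rw [← h3, pow_one])
      rwa [hg] at this
    have ha1 : a % 5 = 1 := by
      rw [Nat.pow_mod] at hmod
      have : a % 5 < 5 := Nat.mod_lt _ (by norm_num)
      interval_cases hr : a % 5 <;> simp at hmod ⊢
    have hcomm : Commute h g := by
      have e : g ^ a = g := by
        rw [← Nat.mod_add_div a 5, ha1, pow_add, pow_mul, ← hg, pow_orderOf_eq_one, one_pow, pow_one, mul_one]
      rw [e] at ha
      show h * g = g * h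
      conv_rhs => rw [ha]
      group
    have := hord (h * g)
    rw [hcomm.orderOf_mul_eq_mul_orderOf_of_coprime (by rw [hh, hg]; norm_num), hh, hg] at this
    omega

theorem eq_grp_of_mem_eleven {K : Subgroup (Equiv.Perm (Fin 22))} (hK : K ≤ M22Idx.grp)
    (hx : perm22 elevenL ∈ K) (hc : 4480 ≤ Nat.card K) : K = M22Idx.grp := by
  classical
  refine le_antisymm hK ?_
  by_contra hne
  have hJ : K ⊓ pairStab ≤ pairStab := inf_le_right
  have hsmall : Nat.card ↥(K ⊓ pairStab) < 10 := by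
    refine small_of_bad hJ fun g hg hsq => ?_
    rcases (pair_class (hJ hg)).1 hsq with h | h | ⟨p, hp, hv, e⟩
    · exact Or.inl h
    · exact Or.inr h
    · exact absurd (mem_goodInv_generates hx hp hv (e ▸ hg.1)) hne
  have horb : (MulAction.orbit K ((0 : Fin 22), ptB)).ncard ≤ 462 := by
    refine (Set.ncard_le_ncard (t := ↑((Finset.univ : Finset (Fin 22 × Fin 22)).filter fun q => q.1 ≠ q.2))
      ?_ (Finset.finite_toSet _)).trans ?_
    · rintro _ ⟨k, rfl⟩
      simp only [Finset.coe_filter, Finset.mem_univ, true_and, Set.mem_ofPred_eq]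
      exact fun e => ptB_ne (k.val.injective e).symm
    · rw [Set.ncard_coe_finset]; decide +kernel
  have hstab : Nat.card (MulAction.stabilizer K ((0 : Fin 22), ptB)) ≤ Nat.card ↥(K ⊓ pairStab) := by
    refine Nat.card_le_card_of_injective
      (fun s => ⟨s.val.val, s.val.2, ⟨hK s.val.2, congrArg Prod.fst s.2⟩, congrArg Prod.snd s.2⟩)
      fun s s' e => Subtype.ext (Subtype.ext (congrArg Subtype.val e :))
  have h := (MulAction.stabilizer K ((0 : Fin 22), ptB)).index_mul_card
  rw [MulAction.index_stabilizer] at h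
  have := Nat.mul_le_mul horb (hstab.trans (Nat.le_of_lt_succ hsmall))
  omega

/-- A subgroup of M22 of order divisible by eleven and at least 4480 is everything. -/
theorem eq_grp {K : Subgroup (Equiv.Perm (Fin 22))} (hK : K ≤ M22Idx.grp) (h11 : 11 ∣ Nat.card K)
    (hc : 4480 ≤ Nat.card K) : K = M22Idx.grp := by
  haveI : Fact (Nat.Prime 11) := ⟨by norm_num⟩
  obtain ⟨-, hxg, hxo⟩ := eleven_facts
  obtain ⟨y, hy⟩ := exists_prime_orderOf_dvd_card' (G := K) 11 h11
  let x' : M22Idx.grp := ⟨_, hxg⟩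
  let y' : M22Idx.grp := ⟨y.val, hK y.2⟩
  have hx' : orderOf x' = 11 := by rw [← Subgroup.orderOf_coe]; exact hxo
  have hy' : orderOf y' = 11 := by rw [← Subgroup.orderOf_coe, ← hy, ← Subgroup.orderOf_coe]
  have hP : ∀ z : M22Idx.grp, orderOf z = 11 → ∃ P : Sylow 11 M22Idx.grp,
      (P : Subgroup M22Idx.grp) = Subgroup.zpowers z := by
    intro z hz
    obtain ⟨P, hle⟩ := (IsPGroup.of_card (p := 11) (n := 1)
      (show Nat.card (Subgroup.zpowers z) = 11 ^ 1 by rw [Nat.card_zpowers, hz, pow_one])).exists_le_sylow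
    refine ⟨P, (Subgroup.eq_of_le_of_card_ge hle ?_).symm⟩
    rw [Nat.card_zpowers, hz]
    obtain ⟨n, hn⟩ := P.isPGroup'.exists_card_eq
    rw [hn]
    have hd : (11 : ℕ) ^ n ∣ 443520 := M22Idx.card_grp ▸ hn ▸ Subgroup.card_subgroup_dvd_card _
    by_contra hlt
    have h2 : 2 ≤ n := by
      by_contra h2
      have : n = 0 ∨ n = 1 := by omega
      rcases this with rfl | rfl <;> simp at hlt
    exact absurd ((pow_dvd_pow 11 h2).trans hd) (by norm_num)
  obtain ⟨P, hPz⟩ := hP x' hx'
  obtain ⟨Q, hQz⟩ := hP y' hy'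
  obtain ⟨c, hc'⟩ := MulAction.exists_smul_eq M22Idx.grp P Q
  have hmem : c * x' * c⁻¹ ∈ Subgroup.zpowers y' := by
    rw [← hQz, ← hc', Sylow.coe_subgroup_smul, hPz]
    exact ⟨x', Subgroup.mem_zpowers x', rfl⟩
  have hmemK : c.val * perm22 elevenL * (c.val)⁻¹ ∈ K := by
    obtain ⟨k, hk⟩ := hmem
    have : (c * x' * c⁻¹).val = y.val ^ k := by rw [← hk]; rfl
    exact (show c.val * perm22 elevenL * (c.val)⁻¹ = y.val ^ k from this) ▸ zpow_mem y.2 k
  set φ := (MulAut.conj (c.val)⁻¹).toMonoidHom with hφ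
  have hcard : Nat.card (K.map φ) = Nat.card K :=
    Nat.card_congr (K.equivMapOfInjective φ (MulAut.conj (c.val)⁻¹).injective).symm.toEquiv
  have hle : K.map φ ≤ M22Idx.grp := by
    rintro _ ⟨k, hk, rfl⟩
    show (c.val)⁻¹ * k * ((c.val)⁻¹)⁻¹ ∈ _
    exact mul_mem (mul_mem (inv_mem c.2) (hK hk)) (inv_mem (inv_mem c.2))
  have hx : perm22 elevenL ∈ K.map φ := ⟨_, hmemK, by
    show (c.val)⁻¹ * (c.val * perm22 elevenL * (c.val)⁻¹) * ((c.val)⁻¹)⁻¹ = _
    group⟩
  have h := eq_grp_of_mem_eleven hle hx (hcard ▸ hc)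
  exact Subgroup.eq_of_le_of_card_ge hK (by rw [← hcard, h])

end CfsgLib.M22Sub
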