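import Cfsg.Prelude.Def_KGroupFacts
import Cfsg.Agent.Lib.Golay.HSSimple
import Cfsg.Agent.Lib.M22Sub.Main

/-!
Automorphisms of the Higman–Sims group: the automorphisms of the graph on 100 vertices.
-/

set_option autoImplicit false

namespace CfsgLib.M22Sub

open Cfsg CfsgLib.Golay

/-- The stabiliser of the first vertex. -/
def vtxStab : Subgroup HS.hsGroup := MulAction.stabilizer HS.hsGroup (0 : Fin 100)

theorem smul_hs (g : HS.hsGroup) (i : Fin 100) : g • i = g.val i := rfl

theorem card_vtxStab : Nat.card vtxStab = 443520 := by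
  haveI := HS.hs_pretransitive
  have := Subgroup.index_mul_card (MulAction.stabilizer HS.hsGroup (0 : Fin 100))
  rw [MulAction.index_stabilizer_of_transitive, Nat.card_fin, HS.card_hsGroup] at this
  show Nat.card (MulAction.stabilizer HS.hsGroup (0 : Fin 100)) = _
  omega

theorem card_stab (p : Fin 100) : Nat.card (MulAction.stabilizer HS.hsGroup p) = 443520 := by
  haveI := HS.hs_pretransitive
  have := Subgroup.index_mul_card (MulAction.stabilizer HS.hsGroup p)
  rw [MulAction.index_stabilizer_of_transitive, Nat.card_fin, HS.card_hsGroup] at this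
  omega

theorem eq_vtxStab {L : Subgroup HS.hsGroup} (hL : L ≤ vtxStab) (h11 : 11 ∣ Nat.card L)
    (hc : 4480 ≤ Nat.card L) : L = vtxStab := by
  let f : stabTwo →* HS.hsGroup := HS.numM.codRestrict HS.hsGroup HS.numM_mem_hs
  have hf : Function.Injective f := fun a b h => HS.numM_injective (congrArg Subtype.val h)
  have hle : f.range ≤ vtxStab := by
    rintro _ ⟨k, rfl⟩
    exact HS.numM_zero k
  have hfr : f.range = vtxStab := Subgroup.eq_of_le_of_card_ge hle (by
    rw [card_vtxStab, ← Nat.card_congr (MonoidHom.ofInjective hf).toEquiv, card_stabTwo])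
  have hcom : (L.comap f).map f = L := Subgroup.map_comap_eq_self (hL.trans hfr.ge)
  set M := L.comap f
  have hcM : Nat.card M = Nat.card L := by
    conv_rhs => rw [← hcom]
    exact Nat.card_congr (M.equivMapOfInjective f hf).toEquiv
  have hcK : Nat.card (M.map M22Idx.twoHom) = Nat.card L :=
    (Nat.card_congr (M.equivMapOfInjective _ M22Idx.twoHom_injective).toEquiv).symm.trans hcM
  have hK := eq_grp (K := M.map M22Idx.twoHom) (by rintro _ ⟨k, -, rfl⟩; exact ⟨k, rfl⟩)
    (hcK.symm ▸ h11) (hcK.symm ▸ hc)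
  refine Subgroup.eq_of_le_of_card_ge hL ?_
  rw [card_vtxStab, ← hcK, hK, M22Idx.card_grp]

/-- An automorphism moves the vertex stabiliser to a vertex stabiliser. -/
theorem exists_vertex (φ : MulAut HS.hsGroup) :
    ∃ p : Fin 100, vtxStab.map φ.toMonoidHom = MulAction.stabilizer HS.hsGroup p := by
  classical
  haveI := HS.hs_pretransitive
  set H := vtxStab.map φ.toMonoidHom with hH
  have hcH : Nat.card H = 443520 :=
    (Nat.card_congr (vtxStab.equivMapOfInjective _ φ.injective).toEquiv).symm.trans card_vtxStab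
  haveI : Fact (Nat.Prime 11) := ⟨by norm_num⟩
  obtain ⟨x, hx⟩ := exists_prime_orderOf_dvd_card' (G := H) 11 (by rw [hcH]; norm_num)
  have hP : IsPGroup 11 (Subgroup.zpowers x) :=
    IsPGroup.of_card (n := 1) (by rw [Nat.card_zpowers, hx, pow_one])
  obtain ⟨p, hp⟩ : (MulAction.fixedPoints (Subgroup.zpowers x) (Fin 100)).Nonempty := by
    refine hP.nonempty_fixed_point_of_prime_not_dvd_card (Fin 100) ?_
    rw [Nat.card_fin]; norm_num
  have hxp : x ∈ MulAction.stabilizer H p := hp ⟨x, Subgroup.mem_zpowers x⟩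
  have hidx := (MulAction.stabilizer H p).index_mul_card
  rw [MulAction.index_stabilizer, hcH] at hidx
  have hn : (MulAction.orbit H p).ncard ≤ 100 := by
    refine (Set.ncard_le_ncard (Set.subset_univ _)).trans ?_
    rw [Set.ncard_univ, Nat.card_fin]
  set n := (MulAction.orbit H p).ncard
  set m := Nat.card (MulAction.stabilizer H p) with hm
  have hn99 : n ≤ 99 := by
    by_contra h
    have : n = 100 := by omega
    rw [this] at hidx
    omega
  have hm11 : 11 ∣ m := by
    have h := orderOf_dvd_natCard (⟨x, hxp⟩ : MulAction.stabilizer H p)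
    rwa [← Subgroup.orderOf_coe, hx] at h
  have hm4 : 4480 ≤ m := by
    by_contra h
    have := Nat.mul_le_mul hn99 (show m ≤ 4479 by omega)
    omega
  obtain ⟨g, hg⟩ := MulAction.exists_smul_eq HS.hsGroup (0 : Fin 100) p
  let f : MulAction.stabilizer H p →* HS.hsGroup :=
    (MulAut.conj g⁻¹).toMonoidHom.comp (H.subtype.comp (MulAction.stabilizer H p).subtype)
  have hf : Function.Injective f :=
    (MulAut.conj g⁻¹).injective.comp (H.subtype_injective.comp (Subgroup.subtype_injective _))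
  have hle : f.range ≤ vtxStab := by
    rintro _ ⟨s, rfl⟩
    show (g⁻¹ * s.val.val * g⁻¹⁻¹) • (0 : Fin 100) = 0
    have hs : s.val.val • p = p := s.2
    rw [inv_inv, mul_smul, mul_smul, hg, hs, inv_smul_eq_iff, hg]
  have hfc : Nat.card f.range = m := (Nat.card_congr (MonoidHom.ofInjective hf).toEquiv).symm
  have heq := eq_vtxStab hle (hfc.symm ▸ hm11) (hfc.symm ▸ hm4)
  rw [heq, card_vtxStab] at hfc
  have htop : MulAction.stabilizer H p = ⊤ := Subgroup.eq_top_of_card_eq _ (by rw [hcH, ← hm, ← hfc])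
  refine ⟨p, Subgroup.eq_of_le_of_card_ge (fun s hs => ?_) (by rw [hcH, card_stab])⟩
  exact (htop ▸ Subgroup.mem_top (⟨s, hs⟩ : H) :)

theorem adj_zero : ∀ j : Fin 100, HS.adjN 0 j.val = true ↔ (1 ≤ j.val ∧ j.val < 23) := by
  decide +kernel

/-- Being a neighbour of the first vertex. -/
def IsPt (j : Fin 100) : Prop := 1 ≤ j.val ∧ j.val < 23

theorem isPt_stab {s : HS.hsGroup} (hs : s ∈ vtxStab) {j : Fin 100} (hj : IsPt j) : IsPt (s • j) := by
  have h := (HS.mem_hsGroup.1 s.2).1 0 j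
  have hs0 : s.val 0 = 0 := hs
  rw [hs0] at h
  exact (adj_zero _).1 (h.trans ((adj_zero _).2 hj))

theorem pts_trans {i j : Fin 100} (hi : IsPt i) (hj : IsPt j) : ∃ s ∈ vtxStab, s • i = j := by
  obtain ⟨x, hx⟩ := HS.vtx_point hi
  obtain ⟨y, hy⟩ := HS.vtx_point hj
  obtain ⟨k, hk⟩ := HS.trans_points x y
  rw [← hx, HS.e100_vtx, ← hy] at hk
  exact ⟨⟨HS.numM k, HS.numM_mem_hs k⟩, HS.numM_zero k, HS.vtx_injective hk⟩

theorem blocks_trans {i j : Fin 100} (hi : 23 ≤ i.val) (hj : 23 ≤ j.val) :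
    ∃ s ∈ vtxStab, s • i = j := by
  obtain ⟨x, hx⟩ := HS.vtx_block hi
  obtain ⟨y, hy⟩ := HS.vtx_block hj
  obtain ⟨k, hk⟩ := HS.trans_blocks x y
  rw [← hx, HS.e100_vtx, ← hy] at hk
  exact ⟨⟨HS.numM k, HS.numM_mem_hs k⟩, HS.numM_zero k, HS.vtx_injective hk⟩

/-- An automorphism fixing the vertex stabiliser is induced by a graph automorphism. -/
theorem exists_perm (φ : MulAut HS.hsGroup) (hφ : vtxStab.map φ.toMonoidHom = vtxStab) :
    ∃ π : Equiv.Perm (Fin 100), π ∈ HS.graphAut ∧
      ∀ g : HS.hsGroup, (φ g).val = π * g.val * π⁻¹ := by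
  classical
  haveI := HS.hs_pretransitive
  have hmem : ∀ g, φ g ∈ vtxStab ↔ g ∈ vtxStab := by
    intro g
    conv_lhs => rw [← hφ]
    exact Subgroup.mem_map_equiv.trans (by rw [MulEquiv.symm_apply_apply])
  choose t ht using fun i : Fin 100 => MulAction.exists_smul_eq HS.hsGroup (0 : Fin 100) i
  let π₀ : Fin 100 → Fin 100 := fun i => φ (t i) • (0 : Fin 100)
  have hequiv : ∀ (g : HS.hsGroup) (i : Fin 100), π₀ (g • i) = φ g • π₀ i := by
    intro g i
    have h : (t (g • i))⁻¹ * (g * t i) ∈ vtxStab := by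
      show ((t (g • i))⁻¹ * (g * t i)) • (0 : Fin 100) = 0
      rw [mul_smul, mul_smul, ht, inv_smul_eq_iff, ht]
    have h' : φ ((t (g • i))⁻¹ * (g * t i)) • (0 : Fin 100) = 0 := (hmem _).2 h
    rw [map_mul, map_inv, map_mul, mul_smul, mul_smul, inv_smul_eq_iff] at h'
    exact h'.symm
  have hinj : Function.Injective π₀ := by
    intro i j h
    have h' : φ ((t j)⁻¹ * t i) ∈ vtxStab := by
      show φ ((t j)⁻¹ * t i) • (0 : Fin 100) = 0
      rw [map_mul, map_inv, mul_smul, inv_smul_eq_iff]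
      exact h
    have h2 : ((t j)⁻¹ * t i) • (0 : Fin 100) = 0 := (hmem _).1 h'
    rw [mul_smul, inv_smul_eq_iff, ht, ht] at h2
    exact h2
  have h00 : π₀ 0 = 0 := (hmem (t 0)).2 (show t 0 ∈ vtxStab from ht 0)
  set π : Equiv.Perm (Fin 100) := Equiv.ofBijective π₀ ⟨hinj, Finite.injective_iff_surjective.1 hinj⟩
    with hπ
  have hπa : ∀ i, π i = π₀ i := fun _ => rfl
  have h1 : IsPt (1 : Fin 100) := by unfold IsPt; decide
  have hpt1 : IsPt (π₀ 1) := by
    by_contra hno
    have hne : (π₀ 1).val ≠ 0 := fun e => by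
      have : π₀ 1 = π₀ 0 := by rw [h00]; exact Fin.ext e
      exact absurd (hinj this) (by decide)
    have hb : 23 ≤ (π₀ 1).val := by unfold IsPt at hno; omega
    have hsub : (Finset.univ.filter fun j : Fin 100 => 23 ≤ j.val) ⊆
        (Finset.univ.filter fun j : Fin 100 => 1 ≤ j.val ∧ j.val < 23).image π₀ := by
      intro j hj
      obtain ⟨s, hs, hsj⟩ := blocks_trans hb (Finset.mem_filter.1 hj).2
      obtain ⟨s', rfl⟩ := φ.surjective s
      rw [← hequiv] at hsj
      exact Finset.mem_image.2 ⟨_, Finset.mem_filter.2 ⟨Finset.mem_univ _,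
        isPt_stab ((hmem s').1 hs) h1⟩, hsj⟩
    have h := (Finset.card_le_card hsub).trans Finset.card_image_le
    have e : (Finset.univ.filter fun j : Fin 100 => 23 ≤ j.val).card = 77 ∧
        (Finset.univ.filter fun j : Fin 100 => 1 ≤ j.val ∧ j.val < 23).card = 22 := by decide +kernel
    omega
  have hfwd : ∀ j, IsPt j → IsPt (π₀ j) := by
    intro j hj
    obtain ⟨s, hs, rfl⟩ := pts_trans h1 hj
    rw [hequiv]
    exact isPt_stab ((hmem s).2 hs) hpt1
  have hiff : ∀ j, IsPt (π₀ j) ↔ IsPt j := by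
    refine fun j => ⟨fun hj => ?_, hfwd j⟩
    set P := Finset.univ.filter fun i : Fin 100 => 1 ≤ i.val ∧ i.val < 23
    have hP : P.image π₀ = P := Finset.eq_of_subset_of_card_le (fun q hq => by
      obtain ⟨r, hr, rfl⟩ := Finset.mem_image.1 hq
      exact Finset.mem_filter.2 ⟨Finset.mem_univ _, hfwd r (Finset.mem_filter.1 hr).2⟩)
      (Finset.card_image_of_injective _ hinj).ge
    have : π₀ j ∈ P.image π₀ := by rw [hP]; exact Finset.mem_filter.2 ⟨Finset.mem_univ _, hj⟩
    obtain ⟨r, hr, e⟩ := Finset.mem_image.1 this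
    exact hinj e ▸ (Finset.mem_filter.1 hr).2
  refine ⟨π, HS.mem_graphAut.2 fun i j => ?_, fun g => Equiv.ext fun i => ?_⟩
  · obtain ⟨g, rfl⟩ := MulAction.exists_smul_eq HS.hsGroup (0 : Fin 100) i
    obtain ⟨j', rfl⟩ : ∃ j', g • j' = j := ⟨g⁻¹ • j, smul_inv_smul g j⟩
    rw [hπa, hπa, hequiv, hequiv, h00, smul_hs, smul_hs, smul_hs, smul_hs,
      (HS.mem_hsGroup.1 (φ g).2).1 0 _, (HS.mem_hsGroup.1 g.2).1 0 j', Bool.eq_iff_iff]
    exact (adj_zero _).trans ((hiff j').trans (adj_zero _).symm)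
  · obtain ⟨j, rfl⟩ := π.surjective i
    show (φ g).val (π j) = π (g.val (π⁻¹ (π j)))
    rw [Equiv.Perm.inv_def, Equiv.symm_apply_apply]
    exact (hequiv g j).symm

theorem conj_mem_hs {a : Equiv.Perm (Fin 100)} (ha : a ∈ HS.graphAut) {g : Equiv.Perm (Fin 100)}
    (hg : g ∈ HS.hsGroup) : a * g * a⁻¹ ∈ HS.hsGroup := by
  obtain ⟨h1, h2⟩ := HS.mem_hsGroup.1 hg
  refine HS.mem_hsGroup.2 ⟨mul_mem (mul_mem ha h1) (inv_mem ha), ?_⟩
  rw [map_mul, map_mul, map_inv, h2, mul_one, mul_inv_cancel]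

/-- Conjugation by a graph automorphism. -/
noncomputable def graphConj : HS.graphAut →* MulAut HS.hsGroup where
  toFun a :=
    { toFun := fun g => ⟨a.val * g.val * a.val⁻¹, conj_mem_hs a.2 g.2⟩
      invFun := fun g => ⟨a.val⁻¹ * g.val * (a.val⁻¹)⁻¹, conj_mem_hs (inv_mem a.2) g.2⟩
      left_inv := fun g => Subtype.ext (by simp [mul_assoc])
      right_inv := fun g => Subtype.ext (by simp [mul_assoc])
      map_mul' := fun g h => Subtype.ext (by simp [mul_assoc]) }
  map_one' := MulEquiv.ext fun g => Subtype.ext (by simp)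
  map_mul' a b := MulEquiv.ext fun g => Subtype.ext (by simp [mul_assoc])

theorem centraliser_trivial {a : Equiv.Perm (Fin 100)}
    (h : ∀ g : HS.hsGroup, a * g.val = g.val * a) : a = 1 := by
  haveI := HS.hs_pretransitive
  have hfix : ∀ s ∈ vtxStab, s • a 0 = a 0 := fun s hs => by
    have hs0 : s.val 0 = 0 := hs
    have e := Equiv.ext_iff.1 (h s) 0
    rw [Equiv.Perm.mul_apply, Equiv.Perm.mul_apply, hs0] at e
    exact e.symm
  have h0 : a 0 = 0 := by
    by_contra hne
    have hv : (a 0).val ≠ 0 := fun e => hne (Fin.ext e)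
    by_cases h23 : (a 0).val < 23
    · have hall : ∀ j, IsPt j → j = a 0 := fun j hj => by
        obtain ⟨s, hs, rfl⟩ := pts_trans (show IsPt (a 0) from ⟨by omega, h23⟩) hj
        exact hfix s hs
      have e1 := hall ⟨1, by norm_num⟩ ⟨by simp, by simp⟩
      have e2 := hall ⟨2, by norm_num⟩ ⟨by simp, by simp⟩
      rw [← e2] at e1
      simp [Fin.ext_iff] at e1
    · have hall : ∀ j : Fin 100, 23 ≤ j.val → j = a 0 := fun j hj => by
        obtain ⟨s, hs, rfl⟩ := blocks_trans (show 23 ≤ (a 0).val by omega) hj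
        exact hfix s hs
      have e1 := hall ⟨23, by norm_num⟩ le_rfl
      have e2 := hall ⟨24, by norm_num⟩ (by simp)
      rw [← e2] at e1
      simp [Fin.ext_iff] at e1
  refine Equiv.ext fun i => ?_
  obtain ⟨g, rfl⟩ := MulAction.exists_smul_eq HS.hsGroup (0 : Fin 100) i
  have e := Equiv.ext_iff.1 (h g) 0
  rw [Equiv.Perm.mul_apply, Equiv.Perm.mul_apply, h0] at e
  exact e

theorem graphConj_bijective : Function.Bijective graphConj := by
  refine ⟨(injective_iff_map_eq_one _).2 fun a ha => ?_, fun φ => ?_⟩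
  · refine Subtype.ext (centraliser_trivial fun g => ?_)
    have e := congrArg Subtype.val (MulEquiv.ext_iff.1 ha g)
    exact mul_inv_eq_iff_eq_mul.1 e
  · haveI := HS.hs_pretransitive
    obtain ⟨p, hp⟩ := exists_vertex φ
    obtain ⟨g, hg⟩ := MulAction.exists_smul_eq HS.hsGroup (0 : Fin 100) p
    have hmap : vtxStab.map (MulAut.conj g⁻¹ * φ).toMonoidHom = vtxStab := by
      have e : (MulAut.conj g⁻¹ * φ).toMonoidHom = (MulAut.conj g⁻¹).toMonoidHom.comp φ.toMonoidHom := rfl
      rw [e, ← Subgroup.map_map, hp]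
      ext s
      rw [Subgroup.mem_map_equiv]
      show ((MulAut.conj g⁻¹).symm s) • p = p ↔ s • (0 : Fin 100) = 0
      rw [MulAut.conj_symm_apply, inv_inv, mul_smul, mul_smul, ← hg, inv_smul_smul,
        smul_left_cancel_iff]
    obtain ⟨π, hπ, hπe⟩ := exists_perm _ hmap
    refine ⟨⟨g.val * π, mul_mem (HS.mem_hsGroup.1 g.2).1 hπ⟩, MulEquiv.ext fun x => Subtype.ext ?_⟩
    show g.val * π * x.val * (g.val * π)⁻¹ = (φ x).val
    have e := hπe x
    rw [MulAut.mul_apply, MulAut.conj_apply, inv_inv, Subgroup.coe_mul, Subgroup.coe_mul,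
      Subgroup.coe_inv] at e
    rw [mul_inv_rev, show g.val * π * x.val * (π⁻¹ * g.val⁻¹) = g.val * (π * x.val * π⁻¹) * g.val⁻¹ by group,
      ← e]
    group

theorem card_mulAut : Nat.card (MulAut HS.hsGroup) = 88704000 :=
  (Nat.card_eq_of_bijective _ graphConj_bijective).symm.trans HS.card_graphAut

theorem card_out_hsGroup : Nat.card (Out HS.hsGroup) = 2 := by
  have hinj : Function.Injective (MulAut.conj : HS.hsGroup →* MulAut HS.hsGroup) := by
    refine (injective_iff_map_eq_one _).2 fun g hg => Subtype.ext (centraliser_trivial fun x => ?_)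
    exact mul_inv_eq_iff_eq_mul.1 (congrArg Subtype.val (MulEquiv.ext_iff.1 hg x))
  have h := (Inn HS.hsGroup).index_mul_card
  rw [← Nat.card_congr (MonoidHom.ofInjective hinj).toEquiv, HS.card_hsGroup, card_mulAut] at h
  rw [← Subgroup.index_eq_card]
  exact Nat.eq_of_mul_eq_mul_right (by norm_num : 0 < 44352000) (h.trans (by norm_num))

theorem card_out_congr {G G' : Type} [Group G] [Group G'] (e : G ≃* G') :
    Nat.card (Out G) = Nat.card (Out G') := by
  refine Nat.card_congr (QuotientGroup.congr (Inn G) (Inn G') (MulAut.congr e) ?_).toEquiv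
  ext ψ
  constructor
  · rintro ⟨_, ⟨x, rfl⟩, rfl⟩
    exact ⟨e x, MulEquiv.ext fun y => by simp [MulAut.congr, MulAut.conj_apply]⟩
  · rintro ⟨x, rfl⟩
    exact ⟨_, ⟨e.symm x, rfl⟩, MulEquiv.ext fun y => by simp [MulAut.congr, MulAut.conj_apply]⟩

end CfsgLib.M22Sub
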