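import Cfsg.Agent.Lib.Golay.M22Index
import Cfsg.Agent.Lib.M22Sub.Data

/-!
Kernel checks in M22 on 22 points: the stabiliser of two points as a list, and generation.
-/

set_option autoImplicit false
set_option maxRecDepth 100000

namespace CfsgLib.M22Sub

open Cfsg CfsgLib.Golay

/-- The permutation of a list. -/
noncomputable def perm22 (L : List ℕ) : Equiv.Perm (Fin 22) := permOf (Equiv.refl (Fin 22)) L

/-- Automorphism check. -/
def autL (L : List ℕ) : Bool :=
  validL 22 L && Path.model22.all fun m => Path.model22.contains (Path.imgV 22 L m)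

/-- Powers of a list. -/
def powL (L : List ℕ) : ℕ → List ℕ
  | 0 => List.range 22
  | k + 1 => compL L (powL L k)

/-- The full table of the stabiliser of two points. -/
def pairTbl : List (List ℕ) := pairGens ++ pairSteps.map (·.1)

/-- A key of a list. -/
def keyL (L : List ℕ) : ℕ := L.foldl (fun k v => 32 * k + v) 0

/-- Strictly increasing numbers. -/
def incB : List ℕ → Bool
  | a :: b :: rest => a.blt b && incB (b :: rest)
  | _ => true

theorem aut_checks : autL elevenL = true ∧ powL elevenL 11 = List.range 22 ∧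
    (powL elevenL 1 != List.range 22) = true ∧
    pairGens.all (fun L => autL L && (powL L 5 == List.range 22) &&
      (L.getD 0 0 == 0) && (L.getD secondPt 0 == secondPt)) = true ∧
    (pairSteps.map (·.1)).all (fun L => (L.getD 0 0 == 0) && (L.getD secondPt 0 == secondPt)) = true ∧
    pairTbl.contains starL = true ∧ pairTbl.length = 960 ∧ secondPt < 22 ∧
    elevenL.getD 0 0 = secondPt ∧ secondPt ≠ 0 := by
  refine ⟨?_, ?_, ?_, ?_, ?_, ?_, ?_, ?_, ?_, ?_⟩ <;> decide +kernel

theorem pair_slp : slpOk 22 pairGens pairSteps = true := by decide +kernel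

theorem pair_keys : incB (pairOrder.flatten.map fun i => keyL (pairTbl.getD i [])) = true ∧
    pairOrder.flatten.length = 960 ∧ pairOrder.flatten.all (fun i => i.blt 960) = true := by
  refine ⟨?_, ?_, ?_⟩ <;> decide +kernel

theorem main_slp : slpOk 22 [elevenL, starL] mainSteps = true ∧
    (pairGens ++ repFst ++ repSnd).all
      (fun L => ([elevenL, starL] ++ mainSteps.map (·.1)).contains L) = true ∧
    repFst.map (fun L => L.getD 0 0) = List.range 22 ∧
    (repSnd.drop 1).map (fun L => L.getD secondPt 0) = List.range' 1 21 ∧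
    (repSnd.drop 1).all (fun L => L.getD 0 0 == 0) = true := by
  refine ⟨?_, ?_, ?_, ?_, ?_⟩ <;> decide +kernel

theorem good_slp : goodInv.all (fun p =>
    slpOk 22 [elevenL, p.1] p.2 && ([elevenL, p.1] ++ p.2.map (·.1)).contains starL) = true := by
  decide +kernel

/-- The element is trivial, is not an involution, or is a listed involution. -/
def invClass (L : List ℕ) : Bool :=
  !(compL L L == List.range 22) || L == List.range 22 || goodInv.any (fun p => p.1 == L) ||
    badInv.contains L

/-- Orders are at most five and no square is an exceptional involution. -/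
def smallOrd (L : List ℕ) : Bool :=
  (List.range' 1 5).any (fun m => powL L m == List.range 22) && !badInv.contains (compL L L)

theorem pair_elts : pairTbl.all (fun L => invClass L && smallOrd L) = true := by decide +kernel

theorem bad_pairs : badInv.all (fun u => badInv.all fun v => u == v || !(compL u v == compL v u)) = true ∧
    badInv.length = 3 ∧ badInv.all (validL 22) = true ∧ validL 22 (List.range 22) = true := by
  refine ⟨?_, ?_, ?_, ?_⟩ <;> decide +kernel

theorem valid_compL {A B : List ℕ} (hA : validL 22 A = true) (hB : validL 22 B = true) :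
    validL 22 (compL A B) = true := by
  obtain ⟨lA, bA, sA⟩ := validL_iff.1 hA
  obtain ⟨lB, bB, sB⟩ := validL_iff.1 hB
  refine validL_iff.2 ⟨by rw [compL_length, lB], fun i hi => ?_, fun i hi => ?_⟩
  · simp only [compL, List.mem_map] at hi
    obtain ⟨j, hj, rfl⟩ := hi
    exact validL_getD_lt hA (bB j hj)
  · obtain ⟨j, hj⟩ := validL_surj hA ⟨i, hi⟩
    simp only [compL, List.mem_map]
    exact ⟨j.val, sB j.val j.isLt, hj⟩

theorem valid_range : validL 22 (List.range 22) = true := bad_pairs.2.2.2

theorem perm22_comp {A B : List ℕ} (hA : validL 22 A = true) (hB : validL 22 B = true) :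
    perm22 (compL A B) = perm22 A * perm22 B :=
  permOf_comp _ hA hB (valid_compL hA hB)

theorem perm22_range : perm22 (List.range 22) = 1 := permOf_id _ valid_range

theorem perm22_powL {A : List ℕ} (hA : validL 22 A = true) : ∀ k,
    validL 22 (powL A k) = true ∧ perm22 (powL A k) = perm22 A ^ k
  | 0 => ⟨valid_range, by rw [powL, perm22_range, pow_zero]⟩
  | k + 1 => by
    obtain ⟨h1, h2⟩ := perm22_powL hA k
    exact ⟨valid_compL hA h1, by rw [powL, perm22_comp hA h1, h2, pow_succ']⟩

theorem perm22_apply {L : List ℕ} (h : validL 22 L = true) (i : Fin 22) :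
    ((perm22 L) i).val = L.getD i.val 0 :=
  permOf_apply (Equiv.refl (Fin 22)) h i

theorem perm22_inj {A B : List ℕ} (hA : validL 22 A = true) (hB : validL 22 B = true)
    (h : perm22 A = perm22 B) : A = B := by
  have lA := (validL_iff.1 hA).1
  have lB := (validL_iff.1 hB).1
  refine List.ext_getElem (by rw [lA, lB]) fun i h1 h2 => ?_
  have hA' := perm22_apply hA ⟨i, lA ▸ h1⟩
  rw [h, perm22_apply hB ⟨i, lA ▸ h1⟩, List.getD_eq_getElem _ _ h2,
    List.getD_eq_getElem _ _ h1] at hA'
  exact hA'.symm

theorem mem_aut {L : List ℕ} (h : autL L = true) : perm22 L ∈ setSystemAut model22Set := by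
  simp only [autL, Bool.and_eq_true, List.all_eq_true, List.contains_iff_mem] at h
  rw [mem_setSystemAut_iff]
  rintro _ ⟨m, hm, rfl⟩
  exact ⟨_, h.2 m hm, Path.blockSet_imgV h.1 m⟩

theorem mem_grp_of_odd {g : Equiv.Perm (Fin 22)} (hg : g ∈ setSystemAut model22Set) {m : ℕ}
    (hm : g ^ (2 * m + 1) = 1) : g ∈ M22Idx.grp := by
  set A := setSystemAut model22Set
  have hi : (M22Idx.grp.subgroupOf A).index = 2 := by
    have h := Subgroup.index_mul_card (M22Idx.grp.subgroupOf A)
    rw [Nat.card_congr (Subgroup.subgroupOfEquivOfLe M22Idx.grp_le_aut).toEquiv, M22Idx.card_grp,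
      model22_aut.1] at h
    omega
  have h2 : (⟨g, hg⟩ : A) ^ (2 * (m + 1)) ∈ M22Idx.grp.subgroupOf A := by
    rw [pow_mul]
    exact Subgroup.pow_mem _ (Subgroup.sq_mem_of_index_two hi _) _
  rw [Subgroup.mem_subgroupOf, SubmonoidClass.coe_pow] at h2
  rwa [show 2 * (m + 1) = (2 * m + 1) + 1 by ring, pow_succ, hm, one_mul] at h2

theorem eleven_facts : validL 22 elevenL = true ∧ perm22 elevenL ∈ M22Idx.grp ∧
    orderOf (perm22 elevenL) = 11 := by
  obtain ⟨ha, h11, h1, -⟩ := aut_checks
  have hv : validL 22 elevenL = true := by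
    simp only [autL, Bool.and_eq_true] at ha; exact ha.1
  have hp : perm22 elevenL ^ 11 = 1 := by rw [← (perm22_powL hv 11).2, h11, perm22_range]
  refine ⟨hv, mem_grp_of_odd (mem_aut ha) (m := 5) hp, ?_⟩
  haveI : Fact (Nat.Prime 11) := ⟨by norm_num⟩
  refine orderOf_eq_prime hp fun h => ?_
  simp only [bne_iff_ne, ne_eq] at h1
  refine h1 (perm22_inj (perm22_powL hv 1).1 valid_range ?_)
  rw [(perm22_powL hv 1).2, pow_one, h, perm22_range]

theorem pair_mem : ∀ L ∈ pairTbl, validL 22 L = true ∧ perm22 L ∈ M22Idx.grp := by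
  refine slp_mem (Equiv.refl (Fin 22)) M22Idx.grp pair_slp fun L hL => ?_
  have h := List.all_eq_true.1 aut_checks.2.2.2.1 L hL
  simp only [Bool.and_eq_true, beq_iff_eq] at h
  have hv : validL 22 L = true := by
    have := h.1.1.1
    simp only [autL, Bool.and_eq_true] at this
    exact this.1
  refine mem_grp_of_odd (mem_aut h.1.1.1) (m := 2) ?_
  show perm22 L ^ 5 = 1
  rw [← (perm22_powL hv 5).2, h.1.1.2, perm22_range]

/-- The second point. -/
def ptB : Fin 22 := ⟨secondPt, aut_checks.2.2.2.2.2.2.2.1⟩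

theorem ptB_ne : ptB ≠ 0 := fun h => aut_checks.2.2.2.2.2.2.2.2.2 (congrArg Fin.val h)

theorem eleven_zero : perm22 elevenL 0 = ptB :=
  Fin.ext ((perm22_apply eleven_facts.1 0).trans aut_checks.2.2.2.2.2.2.2.2.1)

theorem pair_fix : ∀ L ∈ pairTbl, perm22 L 0 = 0 ∧ perm22 L ptB = ptB := by
  intro L hL
  have hv := (pair_mem L hL).1
  have h : L.getD 0 0 = 0 ∧ L.getD secondPt 0 = secondPt := by
    rcases List.mem_append.1 hL with h | h
    · have := List.all_eq_true.1 aut_checks.2.2.2.1 L h
      simp only [Bool.and_eq_true, beq_iff_eq] at this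
      exact ⟨this.1.2, this.2⟩
    · have := List.all_eq_true.1 aut_checks.2.2.2.2.1 L h
      simp only [Bool.and_eq_true, beq_iff_eq] at this
      exact this
  exact ⟨Fin.ext ((perm22_apply hv 0).trans h.1), Fin.ext ((perm22_apply hv ptB).trans h.2)⟩

theorem star_facts : validL 22 starL = true ∧ perm22 starL ∈ M22Idx.grp := by
  exact pair_mem _ (List.contains_iff_mem.1 aut_checks.2.2.2.2.2.1)

theorem incB_lt : ∀ {l : List ℕ}, incB l = true → l.Pairwise (· < ·)
  | [], _ => List.Pairwise.nil
  | [a], _ => List.pairwise_singleton _ a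
  | a :: b :: rest, h => by
    simp only [incB, Bool.and_eq_true, Nat.blt_eq] at h
    have ih := incB_lt h.2
    refine List.pairwise_cons.2 ⟨fun c hc => ?_, ih⟩
    rcases List.mem_cons.1 hc with rfl | hc
    · exact h.1
    · exact h.1.trans ((List.pairwise_cons.1 ih).1 c hc)

/-- The pointwise stabiliser of the two points in M22. -/
noncomputable def pairStab : Subgroup (Equiv.Perm (Fin 22)) :=
  M22Idx.grp ⊓ MulAction.stabilizer (Equiv.Perm (Fin 22)) (0 : Fin 22) ⊓
    MulAction.stabilizer (Equiv.Perm (Fin 22)) ptB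

theorem main_mem {K : Subgroup (Equiv.Perm (Fin 22))} (hx : perm22 elevenL ∈ K)
    (hs : perm22 starL ∈ K) :
    ∀ L ∈ pairGens ++ repFst ++ repSnd, validL 22 L = true ∧ perm22 L ∈ K := by
  intro L hL
  refine slp_mem (Equiv.refl (Fin 22)) K main_slp.1 ?_ L
    (List.contains_iff_mem.1 (List.all_eq_true.1 main_slp.2.1 L hL))
  intro g hg
  simp only [List.mem_cons, List.not_mem_nil, or_false] at hg
  rcases hg with rfl | rfl
  exacts [hx, hs]

theorem rep_facts :
    (∀ L ∈ repFst, validL 22 L = true ∧ perm22 L ∈ M22Idx.grp) ∧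
    (∀ L ∈ repSnd.drop 1, validL 22 L = true ∧ perm22 L ∈ M22Idx.grp ∧ perm22 L 0 = 0) := by
  have hm := main_mem eleven_facts.2.1 star_facts.2
  refine ⟨fun L hL => hm L (by simp [hL]), fun L hL => ?_⟩
  have h := hm L (List.mem_append_right _ (List.mem_of_mem_drop hL))
  refine ⟨h.1, h.2, Fin.ext ((perm22_apply h.1 0).trans ?_)⟩
  simpa using List.all_eq_true.1 main_slp.2.2.2.2 L hL

theorem fst_map : (repFst.map fun L => ((perm22 L) 0).val) = List.range 22 := by
  rw [← main_slp.2.2.1]
  exact List.map_congr_left fun L hL => perm22_apply (rep_facts.1 L hL).1 0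

theorem snd_map : ((repSnd.drop 1).map fun L => ((perm22 L) ptB).val) = List.range' 1 21 := by
  rw [← main_slp.2.2.2.1]
  exact List.map_congr_left fun L hL => perm22_apply (rep_facts.2 L hL).1 ptB

theorem card_pairStab : Nat.card pairStab = 960 := by
  obtain ⟨h1, h2⟩ := rep_facts
  have e0 := card_eq_of_transversal M22Idx.grp 0 (repFst.map perm22)
    (fun t ht => by obtain ⟨L, hL, rfl⟩ := List.mem_map.1 ht; exact (h1 L hL).2) ?_ ?_
  · have e1 := card_eq_of_transversal
      (M22Idx.grp ⊓ MulAction.stabilizer (Equiv.Perm (Fin 22)) (0 : Fin 22)) ptB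
      ((repSnd.drop 1).map perm22) ?_ ?_ ?_
    · have l1 : repFst.length = 22 := by
        simpa using congrArg List.length main_slp.2.2.1
      have l2 : (repSnd.drop 1).length = 21 := by
        simpa using congrArg List.length main_slp.2.2.2.1
      rw [M22Idx.card_grp, List.length_map, l1, e1, List.length_map, l2] at e0
      show Nat.card ↥(M22Idx.grp ⊓ MulAction.stabilizer (Equiv.Perm (Fin 22)) (0 : Fin 22) ⊓
        MulAction.stabilizer (Equiv.Perm (Fin 22)) ptB) = 960
      omega
    · intro t ht
      obtain ⟨L, hL, rfl⟩ := List.mem_map.1 ht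
      exact ⟨(h2 L hL).2.1, (h2 L hL).2.2⟩
    · refine List.Nodup.of_map Fin.val ?_
      simp only [List.map_map]
      exact snd_map.symm ▸ List.nodup_range'
    · intro h hh
      obtain ⟨-, h0⟩ := hh
      have h0' : h 0 = 0 := h0
      have hne : h ptB ≠ 0 := fun e => ptB_ne (h.injective (e.trans h0'.symm))
      have hmem : (h ptB).val ∈ List.range' 1 21 := by
        have := Fin.val_ne_zero_iff.2 hne
        simp only [List.mem_range'_1]; omega
      rw [← snd_map, List.mem_map] at hmem
      obtain ⟨L, hL, e⟩ := hmem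
      simp only [List.map_map, List.mem_map]
      exact ⟨L, hL, Fin.ext e⟩
  · refine List.Nodup.of_map Fin.val ?_
    simp only [List.map_map]
    exact fst_map.symm ▸ List.nodup_range
  · intro h _
    have hmem : (h 0).val ∈ List.range 22 := List.mem_range.2 (h 0).isLt
    rw [← fst_map, List.mem_map] at hmem
    obtain ⟨L, hL, e⟩ := hmem
    simp only [List.map_map, List.mem_map]
    exact ⟨L, hL, Fin.ext e⟩

theorem mem_pairTbl {g : Equiv.Perm (Fin 22)} (hg : g ∈ pairStab) :
    ∃ L ∈ pairTbl, perm22 L = g := by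
  classical
  obtain ⟨hinc, hlen, hlt⟩ := pair_keys
  have hlenT := aut_checks.2.2.2.2.2.2.1
  set keys := pairOrder.flatten.map fun i => keyL (pairTbl.getD i []) with hkeys
  have hnd : keys.Nodup := (incB_lt hinc).nodup
  set S : Finset (Equiv.Perm (Fin 22)) := (pairTbl.map perm22).toFinset with hS
  have hmem : ∀ i ∈ pairOrder.flatten, pairTbl.getD i [] ∈ pairTbl := by
    intro i hi
    have := List.all_eq_true.1 hlt i hi
    rw [Nat.blt_eq] at this
    rw [List.getD_eq_getElem _ _ (by omega)]
    exact List.getElem_mem _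
  have hsub : (pairOrder.flatten.map fun i => perm22 (pairTbl.getD i [])).toFinset ⊆ S := by
    intro p hp
    simp only [List.mem_toFinset, List.mem_map] at hp
    obtain ⟨i, hi, rfl⟩ := hp
    simp only [hS, List.mem_toFinset, List.mem_map]
    exact ⟨_, hmem i hi, rfl⟩
  have h960 : 960 ≤ S.card := by
    refine le_trans (le_of_eq ?_) (Finset.card_le_card hsub)
    rw [List.toFinset_card_of_nodup, List.length_map, hlen]
    refine List.Nodup.map_on (fun i hi j hj e => ?_) (List.Nodup.of_map _ hnd)
    have e' := perm22_inj (pair_mem _ (hmem i hi)).1 (pair_mem _ (hmem j hj)).1 e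
    exact List.inj_on_of_nodup_map hnd hi hj (congrArg keyL e')
  have hSle : ∀ p ∈ S, p ∈ pairStab := by
    intro p hp
    simp only [hS, List.mem_toFinset, List.mem_map] at hp
    obtain ⟨L, hL, rfl⟩ := hp
    exact ⟨⟨(pair_mem L hL).2, (pair_fix L hL).1⟩, (pair_fix L hL).2⟩
  haveI : Fintype pairStab := Fintype.ofFinite _
  set U : Finset (Equiv.Perm (Fin 22)) := Finset.univ.filter fun p => p ∈ pairStab with hU
  have hUc : U.card = 960 := by
    rw [← card_pairStab, Nat.card_eq_fintype_card, hU]
    exact (Fintype.card_of_subtype _ (by simp)).symm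
  have heq : S = U := Finset.eq_of_subset_of_card_le
    (fun p hp => Finset.mem_filter.2 ⟨Finset.mem_univ _, hSle p hp⟩) (by omega)
  have : g ∈ S := heq ▸ Finset.mem_filter.2 ⟨Finset.mem_univ _, hg⟩
  simp only [hS, List.mem_toFinset, List.mem_map] at this
  exact this

theorem grp_le {K : Subgroup (Equiv.Perm (Fin 22))} (hx : perm22 elevenL ∈ K)
    (hs : perm22 starL ∈ K) : M22Idx.grp ≤ K := by
  obtain ⟨h1, h2⟩ := rep_facts
  have hm := main_mem hx hs
  refine le_of_transversal _ _ 0 (repFst.map perm22) ?_ ?_ ?_ ?_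
  · intro t ht; obtain ⟨L, hL, rfl⟩ := List.mem_map.1 ht; exact (h1 L hL).2
  · intro t ht; obtain ⟨L, hL, rfl⟩ := List.mem_map.1 ht; exact (hm L (by simp [hL])).2
  · intro h _
    have hmem : (h 0).val ∈ List.range 22 := List.mem_range.2 (h 0).isLt
    rw [← fst_map, List.mem_map] at hmem
    obtain ⟨L, hL, e⟩ := hmem
    simp only [List.map_map, List.mem_map]
    exact ⟨L, hL, Fin.ext e⟩
  refine le_of_transversal _ _ ptB ((repSnd.drop 1).map perm22) ?_ ?_ ?_ ?_
  · intro t ht; obtain ⟨L, hL, rfl⟩ := List.mem_map.1 ht; exact ⟨(h2 L hL).2.1, (h2 L hL).2.2⟩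
  · intro t ht
    obtain ⟨L, hL, rfl⟩ := List.mem_map.1 ht
    exact (hm L (List.mem_append_right _ (List.mem_of_mem_drop hL))).2
  · intro h hh
    obtain ⟨-, h0⟩ := hh
    have h0' : h 0 = 0 := h0
    have hne : h ptB ≠ 0 := fun e => ptB_ne (h.injective (e.trans h0'.symm))
    have hmem : (h ptB).val ∈ List.range' 1 21 := by
      have := Fin.val_ne_zero_iff.2 hne
      simp only [List.mem_range'_1]; omega
    rw [← snd_map, List.mem_map] at hmem
    obtain ⟨L, hL, e⟩ := hmem
    simp only [List.map_map, List.mem_map]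
    exact ⟨L, hL, Fin.ext e⟩
  intro g hg
  obtain ⟨L, hL, rfl⟩ := mem_pairTbl hg
  exact (slp_mem (Equiv.refl (Fin 22)) K pair_slp
    (fun M hM => (hm M (by simp [hM])).2) L hL).2

end CfsgLib.M22Sub
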